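import Mathlib

/-!
Packed permutations of `n` points with `w` bits for each image, products of earlier ones, exact orbits along a
base, and the certificates that settle which group elements have given images of the base.
-/

set_option autoImplicit false
set_option maxRecDepth 20000

namespace CfsgLib.Spor.PermCert

open MulAction

/-- Packed permutations, in three levels of at most sixteen entries. -/
abbrev Rows := List (List (List ℕ))

/-- The image of a point under the `k`th packed permutation. -/
def look (w : ℕ) (R : Rows) (k i : ℕ) : ℕ :=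
  ((((R.getD (k / 256) []).getD (k / 16 % 16) []).getD (k % 16) 0) >>> (w * i)) &&& (2 ^ w - 1)

variable {n : ℕ}

/-- A permutation is the `k`th packed one. -/
def Matches (w : ℕ) (g : Equiv.Perm (Fin n)) (R : Rows) (k : ℕ) : Prop := ∀ i : Fin n, (g i).1 = look w R k i.1

theorem Matches.unique {w : ℕ} {g h : Equiv.Perm (Fin n)} {R : Rows} {k : ℕ} (hg : Matches w g R k)
    (hh : Matches w h R k) : g = h :=
  Equiv.ext fun i => Fin.ext ((hg i).trans (hh i).symm)

/-- Each further packed permutation is the product of two earlier ones. -/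
def opsOK (n w : ℕ) (R : Rows) (ops : List (ℕ × ℕ)) (s : ℕ) : Bool :=
  (List.range ops.length).all fun k =>
    let e := ops.getD k (0, 0)
    decide (e.1 < s + k) && decide (e.2 < s + k) &&
      (List.range n).all fun i => look w R (s + k) i == look w R e.1 (look w R e.2 i)

theorem exists_of_ops {w : ℕ} {R : Rows} {ops : List (ℕ × ℕ)} {s : ℕ} (hok : opsOK n w R ops s = true)
    (H : Subgroup (Equiv.Perm (Fin n))) (hseed : ∀ k < s, ∃ g ∈ H, Matches w g R k) :
    ∀ m < s + ops.length, ∃ g ∈ H, Matches w g R m := by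
  simp only [opsOK, List.all_eq_true, List.mem_range, Bool.and_eq_true, decide_eq_true_eq, beq_iff_eq] at hok
  intro m
  induction m using Nat.strong_induction_on with
  | _ m ih =>
    intro hm
    by_cases hs : m < s
    · exact hseed m hs
    · obtain ⟨k, rfl⟩ : ∃ k, m = s + k := ⟨m - s, by omega⟩
      obtain ⟨⟨ha, hb⟩, he⟩ := hok k (by omega)
      obtain ⟨a, haH, hA⟩ := ih _ ha (by omega)
      obtain ⟨b, hbH, hB⟩ := ih _ hb (by omega)
      refine ⟨a * b, mul_mem haH hbH, fun i => ?_⟩
      rw [Equiv.Perm.mul_apply, hA, hB, he i.1 i.2]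

/-- A point from a number. -/
def pnt (n : ℕ) [NeZero n] (b : ℕ) : Fin n := ⟨b % n, Nat.mod_lt _ (NeZero.pos n)⟩

theorem pnt_val [NeZero n] {b : ℕ} (hb : b < n) : (pnt n b).1 = b := Nat.mod_eq_of_lt hb

/-- The orbits along a base: each listed element fixes the earlier base points, and the images of the
current one are distinct. -/
def chainOK (n w : ℕ) (R : Rows) (len : ℕ) : List ℕ → List ℕ → List (List ℕ) → Bool
  | fixed, b :: bs, T :: Ts => decide (b < n) && decide ((T.map fun k => look w R k b).Nodup) &&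
      (T.all fun k => decide (k < len) && fixed.all fun c => look w R k c == c) &&
      chainOK n w R len (b :: fixed) bs Ts
  | _, [], [] => true
  | _, _, _ => false

/-- The elements of a group fixing some points. -/
def fixSub [NeZero n] (H : Subgroup (Equiv.Perm (Fin n))) (l : List ℕ) : Subgroup (Equiv.Perm (Fin n)) where
  carrier := {g | g ∈ H ∧ ∀ c ∈ l, g (pnt n c) = pnt n c}
  one_mem' := ⟨H.one_mem, fun _ _ => rfl⟩
  mul_mem' := fun {g h} hg hh =>
    ⟨H.mul_mem hg.1 hh.1, fun c hc => by rw [Equiv.Perm.mul_apply, hh.2 c hc, hg.2 c hc]⟩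
  inv_mem' := fun {g} hg => ⟨H.inv_mem hg.1, fun c hc => Equiv.Perm.inv_eq_iff_eq.2 (hg.2 c hc).symm⟩

theorem mem_fixSub [NeZero n] {H : Subgroup (Equiv.Perm (Fin n))} {l : List ℕ} {g : Equiv.Perm (Fin n)} :
    g ∈ fixSub H l ↔ g ∈ H ∧ ∀ c ∈ l, g (pnt n c) = pnt n c := Iff.rfl

theorem card_fixSub_cons [NeZero n] (H : Subgroup (Equiv.Perm (Fin n))) (b : ℕ) (fixed : List ℕ) :
    Nat.card ↥(fixSub H fixed) =
      Nat.card ↥(orbit (fixSub H fixed) (pnt n b)) * Nat.card ↥(fixSub H (b :: fixed)) := by
  have hstab : Nat.card ↥(stabilizer (fixSub H fixed) (pnt n b)) = Nat.card ↥(fixSub H (b :: fixed)) := by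
    refine Nat.card_congr
      { toFun := fun g => ⟨g.1.1, mem_fixSub.2 ⟨g.1.2.1, fun c hc => ?_⟩⟩
        invFun := fun g => ⟨⟨g.1, g.2.1, fun c hc => g.2.2 c (List.mem_cons_of_mem _ hc)⟩,
          g.2.2 b List.mem_cons_self⟩
        left_inv := fun g => rfl
        right_inv := fun g => rfl }
    rcases List.mem_cons.1 hc with rfl | hc
    · exact g.2
    · exact g.1.2.2 c hc
  rw [← hstab, ← Nat.card_prod]
  exact (Nat.card_congr (orbitProdStabilizerEquivGroup (fixSub H fixed) (pnt n b))).symm

/-- The counting along the chain, and the fact that tight counts make every orbit exact. -/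
theorem count_chain [NeZero n] {w : ℕ} {R : Rows} {len : ℕ} {H : Subgroup (Equiv.Perm (Fin n))}
    (hmem : ∀ k < len, ∃ g ∈ H, Matches w g R k) : ∀ (bs : List ℕ) (Ts : List (List ℕ)) (fixed : List ℕ),
    (∀ c ∈ fixed, c < n) → chainOK n w R len fixed bs Ts = true →
      (Ts.map List.length).prod * Nat.card ↥(fixSub H (bs.reverse ++ fixed)) ≤ Nat.card ↥(fixSub H fixed) ∧
      (Nat.card ↥(fixSub H fixed) ≤ (Ts.map List.length).prod →
        ∀ l < bs.length, ∀ h ∈ fixSub H ((bs.take l).reverse ++ fixed),
          (h (pnt n (bs.getD l 0))).1 ∈ (Ts.getD l []).map fun k => look w R k (bs.getD l 0))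
  | [], [], fixed, _, _ => by simp
  | [], _ :: _, _, _, h => by simp [chainOK] at h
  | _ :: _, [], _, _, h => by simp [chainOK] at h
  | b :: bs, T :: Ts, fixed, hf, h => by
    simp only [chainOK, Bool.and_eq_true, decide_eq_true_eq, List.all_eq_true, beq_iff_eq] at h
    obtain ⟨⟨⟨hb, hnd⟩, hT⟩, hrest⟩ := h
    obtain ⟨ih, ih'⟩ := count_chain hmem bs Ts (b :: fixed) (by simpa [hb] using hf) hrest
    have hsub : ∀ k ∈ T, ∃ g ∈ fixSub H fixed, Matches w g R k := fun k hk => by
      obtain ⟨g, hg, hm⟩ := hmem k (hT k hk).1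
      refine ⟨g, mem_fixSub.2 ⟨hg, fun c hc => Fin.ext ?_⟩, hm⟩
      rw [hm, pnt_val (hf c hc)]
      exact (hT k hk).2 c hc
    let f : Fin T.length → ↥(orbit (fixSub H fixed) (pnt n b)) := fun k =>
      ⟨(hsub _ (T.get_mem k)).choose (pnt n b), ⟨⟨_, (hsub _ (T.get_mem k)).choose_spec.1⟩, rfl⟩⟩
    have hv : ∀ k, ((f k).1).1 = look w R (T.get k) b := fun k => by
      show ((hsub _ (T.get_mem k)).choose (pnt n b)).1 = _
      rw [(hsub _ (T.get_mem k)).choose_spec.2, pnt_val hb]
    have hinj : Function.Injective f := fun k k' e => by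
      have := congrArg (fun z => (z.1).1) e
      simp only [hv] at this
      exact Fin.ext ((hnd.getElem_inj_iff (i := k.1) (j := k'.1)
        (hi := by simp) (hj := by simp)).1 (by simpa using this))
    have horb : T.length ≤ Nat.card ↥(orbit (fixSub H fixed) (pnt n b)) := by
      have := Nat.card_le_card_of_injective f hinj
      rwa [Nat.card_fin] at this
    have hos := card_fixSub_cons H b fixed
    have : Nonempty ↥(orbit (fixSub H fixed) (pnt n b)) := ⟨⟨_, mem_orbit_self _⟩⟩
    constructor
    · rw [hos, List.map_cons, List.prod_cons, List.reverse_cons, List.append_assoc, List.singleton_append, mul_assoc]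
      exact Nat.mul_le_mul horb ih
    · intro htight l hl h hh
      rw [hos, List.map_cons, List.prod_cons] at htight
      have hc : Nat.card ↥(fixSub H (b :: fixed)) ≥ (Ts.map List.length).prod :=
        le_trans (Nat.le_mul_of_pos_right _ Nat.card_pos) ih
      have hpos : 0 < (Ts.map List.length).prod := by
        rcases Nat.eq_zero_or_pos (Ts.map List.length).prod with h0 | h0
        · have := Nat.card_pos (α := ↥(orbit (fixSub H fixed) (pnt n b)))
          have := Nat.card_pos (α := ↥(fixSub H (b :: fixed)))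
          rw [h0, Nat.mul_zero] at htight
          have h1 := Nat.mul_pos ‹0 < Nat.card ↥(orbit (fixSub H fixed) (pnt n b))›
            ‹0 < Nat.card ↥(fixSub H (b :: fixed))›
          omega
        · exact h0
      have horbEq : Nat.card ↥(orbit (fixSub H fixed) (pnt n b)) ≤ T.length :=
        Nat.le_of_mul_le_mul_right (le_trans (Nat.mul_le_mul_left _ hc) htight) hpos
      cases l with
      | succ l =>
        simp only [List.take_succ_cons, List.reverse_cons, List.append_assoc, List.singleton_append,
          List.getD_cons_succ] at hh ⊢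
        refine ih' (Nat.le_of_mul_le_mul_left (le_trans ?_ htight) ?_) l (by simpa using hl) h hh
        · exact Nat.mul_le_mul_right _ horb
        · rcases Nat.eq_zero_or_pos T.length with h0 | h0
          · have := Nat.card_pos (α := ↥(orbit (fixSub H fixed) (pnt n b)))
            omega
          · exact h0
      | zero =>
        simp only [List.take_zero, List.reverse_nil, List.nil_append, List.getD_cons_zero] at hh ⊢
        have hsurj : Function.Surjective f :=
          ((Nat.bijective_iff_injective_and_card f).2 ⟨hinj, by rw [Nat.card_fin]; exact le_antisymm horb horbEq⟩).2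
        obtain ⟨k, hk⟩ := hsurj ⟨h (pnt n b), ⟨⟨h, hh⟩, rfl⟩⟩
        refine List.mem_map.2 ⟨T.get k, T.get_mem k, ?_⟩
        rw [← hv, hk]

theorem card_chain [NeZero n] {w : ℕ} {R : Rows} {len : ℕ} {H : Subgroup (Equiv.Perm (Fin n))}
    (hmem : ∀ k < len, ∃ g ∈ H, Matches w g R k) {bs : List ℕ} {Ts : List (List ℕ)}
    (h : chainOK n w R len [] bs Ts = true) :
    (Ts.map List.length).prod * Nat.card ↥(fixSub H bs.reverse) ≤ Nat.card ↥H := by
  have e : fixSub H [] = H := by ext g; simp [mem_fixSub]
  have := (count_chain hmem bs Ts [] (by simp) h).1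
  rwa [List.append_nil, e] at this

/-- A full base of a group of known order. -/
theorem eq_of_base [NeZero n] {w : ℕ} {R : Rows} {len : ℕ} {H : Subgroup (Equiv.Perm (Fin n))}
    (hmem : ∀ k < len, ∃ g ∈ H, Matches w g R k) {bs : List ℕ} {Ts : List (List ℕ)}
    (h : chainOK n w R len [] bs Ts = true) (hcard : Nat.card ↥H = (Ts.map List.length).prod)
    {g g' : Equiv.Perm (Fin n)} (hg : g ∈ H) (hg' : g' ∈ H) (e : ∀ b ∈ bs, g (pnt n b) = g' (pnt n b)) : g = g' := by
  have hc := card_chain hmem h
  rw [← hcard] at hc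
  have h1 : Nat.card ↥(fixSub H bs.reverse) ≤ 1 :=
    Nat.le_of_mul_le_mul_left (by rwa [mul_one]) Nat.card_pos
  have hbot := Subgroup.card_eq_one.1 (le_antisymm h1 Nat.card_pos)
  have hmem' : g'⁻¹ * g ∈ fixSub H bs.reverse := mem_fixSub.2 ⟨mul_mem (inv_mem hg') hg, fun c hc => by
    rw [Equiv.Perm.mul_apply, e c (List.mem_reverse.1 hc), ← Equiv.Perm.mul_apply, inv_mul_cancel]
    rfl⟩
  rw [hbot, Subgroup.mem_bot, inv_mul_eq_one] at hmem'
  exact hmem'.symm

/-- The product of listed permutations at a point. -/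
def comp (w : ℕ) (R : Rows) (us : List ℕ) (b : ℕ) : ℕ := us.foldr (look w R) b

theorem exists_comp {w : ℕ} {R : Rows} {len : ℕ} {H : Subgroup (Equiv.Perm (Fin n))}
    (hmem : ∀ k < len, ∃ g ∈ H, Matches w g R k) :
    ∀ us : List ℕ, (∀ u ∈ us, u < len) → ∃ g ∈ H, ∀ i : Fin n, (g i).1 = comp w R us i.1
  | [], _ => ⟨1, one_mem _, fun _ => rfl⟩
  | u :: us, h => by
    obtain ⟨a, ha, hA⟩ := hmem u (h u List.mem_cons_self)
    obtain ⟨g, hg, hG⟩ := exists_comp hmem us fun v hv => h v (List.mem_cons_of_mem _ hv)
    refine ⟨a * g, mul_mem ha hg, fun i => ?_⟩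
    rw [Equiv.Perm.mul_apply, hA, hG]
    rfl

/-- A certificate about the elements with prescribed images of the base: a product of listed elements agreeing
with them on the first base points, and either on all of them, and then it is one of the allowed elements, or
the point it sends to the next prescribed image is outside the orbit. -/
def certOK (n w : ℕ) (R : Rows) (len : ℕ) (bs : List ℕ) (Ts : List (List ℕ)) (allowed tgt : List ℕ)
    (c : List ℕ × ℕ × ℕ) : Bool :=
  let us := c.1
  let l := c.2.1
  let v := c.2.2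
  (us.all fun u => decide (u < len)) && decide (l ≤ bs.length) &&
    ((List.range l).all fun i => comp w R us (bs.getD i 0) == tgt.getD i 0) &&
    (if l == bs.length then allowed.any fun a => decide (a < len) && bs.all fun b => look w R a b == comp w R us b
     else decide (v < n) && comp w R us v == tgt.getD l 0 &&
      !((Ts.getD l []).map fun k => look w R k (bs.getD l 0)).contains v)

theorem certOK_spec [NeZero n] {w : ℕ} {R : Rows} {len : ℕ} {H : Subgroup (Equiv.Perm (Fin n))}
    (hmem : ∀ k < len, ∃ g ∈ H, Matches w g R k) {bs : List ℕ} {Ts : List (List ℕ)}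
    (h : chainOK n w R len [] bs Ts = true) (hcard : Nat.card ↥H = (Ts.map List.length).prod)
    (hbs : ∀ b ∈ bs, b < n) {allowed tgt : List ℕ} {c : List ℕ × ℕ × ℕ}
    (hok : certOK n w R len bs Ts allowed tgt c = true) {g : Equiv.Perm (Fin n)} (hg : g ∈ H)
    (himg : ∀ i < bs.length, (g (pnt n (bs.getD i 0))).1 = tgt.getD i 0) :
    ∃ a ∈ allowed, Matches w g R a := by
  obtain ⟨us, l, v⟩ := c
  simp only [certOK, Bool.and_eq_true, List.all_eq_true, List.mem_range, decide_eq_true_eq, beq_iff_eq] at hok
  obtain ⟨⟨⟨hus, hl⟩, hpre⟩, hrest⟩ := hok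
  obtain ⟨u, hu, hU⟩ := exists_comp hmem us hus
  have hlt : ∀ i < bs.length, bs.getD i 0 < n := fun i hi => by
    rw [List.getD_eq_getElem _ _ hi]; exact hbs _ (List.getElem_mem hi)
  have hagree : ∀ i < l, u (pnt n (bs.getD i 0)) = g (pnt n (bs.getD i 0)) := fun i hi => Fin.ext (by
    rw [hU, pnt_val (hlt i (by omega)), hpre i hi, himg i (by omega)])
  by_cases hfull : l = bs.length
  · rw [if_pos hfull] at hrest
    simp only [List.any_eq_true, Bool.and_eq_true, decide_eq_true_eq, List.all_eq_true, beq_iff_eq] at hrest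
    obtain ⟨a, ha, halt, hab⟩ := hrest
    obtain ⟨e, he, hE⟩ := hmem a halt
    refine ⟨a, ha, ?_⟩
    have : g = e := eq_of_base hmem h hcard hg he fun b hb => by
      obtain ⟨i, hi, rfl⟩ := List.getElem_of_mem hb
      rw [← List.getD_eq_getElem _ 0 hi, ← hagree i (by omega)]
      refine Fin.ext ?_
      rw [hU, hE, pnt_val (hlt i hi), hab _ (by rw [List.getD_eq_getElem _ _ hi]; exact List.getElem_mem hi)]
    exact this ▸ hE
  · rw [if_neg hfull] at hrest
    simp only [Bool.and_eq_true, decide_eq_true_eq, beq_iff_eq, Bool.not_eq_true', List.contains_eq_mem,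
      decide_eq_false_iff_not] at hrest
    obtain ⟨⟨hv, hvt⟩, hout⟩ := hrest
    have e : fixSub H [] = H := by ext a; simp [mem_fixSub]
    have hex := (count_chain hmem bs Ts [] (by simp) h).2 (by rw [e, hcard]) l (by omega) (u⁻¹ * g) (by
      rw [List.append_nil]
      refine mem_fixSub.2 ⟨mul_mem (inv_mem hu) hg, fun b hb => ?_⟩
      rw [List.mem_reverse, List.mem_take_iff_getElem] at hb
      obtain ⟨i, hi, rfl⟩ := hb
      have hi' : i < bs.length := by omega
      rw [Equiv.Perm.mul_apply, Equiv.Perm.inv_eq_iff_eq, ← List.getD_eq_getElem _ 0 hi']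
      exact (hagree i (by omega)).symm)
    refine absurd ?_ hout
    have ev : (u⁻¹ * g) (pnt n (bs.getD l 0)) = pnt n v := by
      rw [Equiv.Perm.mul_apply, Equiv.Perm.inv_eq_iff_eq]
      exact Fin.ext (by rw [himg l (by omega), hU, pnt_val hv, hvt])
    rwa [ev, pnt_val hv] at hex

end CfsgLib.Spor.PermCert
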