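import Mathlib
import Cfsg.Prelude.Def_KGroupFacts

/-!
A finite group generated by a self-centralizing element of prime order and an involution inverting a
self-centralizing element normalizing it has no outer automorphisms, once the other choices of images break relations.
-/

set_option autoImplicit false

namespace CfsgLib.Spor.PermCert

open Cfsg

theorem exists_normalised {G : Type*} [Group G] [Finite G] {p r : ℕ} [Fact p.Prime]
    (x y : G) (hx : orderOf x = p) (hfac : (Nat.card G).factorization p = 1)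
    (hyx : y * x * y⁻¹ = x ^ r) (hr : r % p ≠ 1)
    (hdec : ∀ k < p, k ≠ 0 → ∃ i : ℕ, k * r ^ i % p = 1 ∨ k * r ^ i % p = p - 1)
    (hcx : ∀ g : G, g * x = x * g → g ∈ Subgroup.zpowers x) (φ : MulAut G) :
    ∃ g : G, ((MulAut.conj g * φ) x = x ∨ (MulAut.conj g * φ) x = x⁻¹) ∧ (MulAut.conj g * φ) y = y := by
  have hxp : x ^ p = 1 := hx ▸ pow_orderOf_eq_one x
  -- the image of `x` becomes `x` or its inverse
  have hpow : ∀ i : ℕ, y ^ i * x * (y ^ i)⁻¹ = x ^ (r ^ i) := by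
    intro i
    induction i with
    | zero => simp
    | succ i ih =>
      rw [pow_succ' y, show y * y ^ i * x * (y * y ^ i)⁻¹ = y * (y ^ i * x * (y ^ i)⁻¹) * y⁻¹ by group, ih,
        ← MulAut.conj_apply, map_pow, MulAut.conj_apply, hyx, ← pow_mul, pow_succ']
  obtain ⟨c, hc⟩ : ∃ c : G, c * φ x * c⁻¹ = x ∨ c * φ x * c⁻¹ = x⁻¹ := by
    have hcard : Nat.card ↥(Subgroup.zpowers x) = p ^ (Nat.card G).factorization p := by
      rw [Nat.card_zpowers, hx, hfac, pow_one]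
    have hcard' : Nat.card ↥(Subgroup.zpowers (φ x)) = p ^ (Nat.card G).factorization p := by
      rw [Nat.card_zpowers, MulEquiv.orderOf_eq, hx, hfac, pow_one]
    obtain ⟨a, ha⟩ := MulAction.exists_smul_eq G (Sylow.ofCard _ hcard') (Sylow.ofCard _ hcard)
    have e := congrArg (fun S : Sylow p G => (S : Subgroup G)) ha
    simp only [Sylow.coe_subgroup_smul, Sylow.coe_ofCard] at e
    have hmem : a * φ x * a⁻¹ ∈ Subgroup.zpowers x := e ▸ ⟨φ x, Subgroup.mem_zpowers _, rfl⟩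
    obtain ⟨k, hk, hk'⟩ : ∃ k < p, x ^ k = a * φ x * a⁻¹ := by
      obtain ⟨m, hm⟩ := (mem_powers_iff_mem_zpowers (x := x) (y := a * φ x * a⁻¹)).2 hmem
      exact ⟨m % p, Nat.mod_lt _ (Fact.out : p.Prime).pos, by rw [← pow_eq_pow_mod m hxp]; exact hm⟩
    have hk0 : k ≠ 0 := by
      rintro rfl
      rw [pow_zero, eq_comm, mul_inv_eq_one, mul_eq_left] at hk'
      rw [← φ.orderOf_eq, hk', orderOf_one] at hx
      exact (Fact.out : p.Prime).ne_one hx.symm
    obtain ⟨i, hi⟩ := hdec k hk hk0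
    refine ⟨y ^ i * a, ?_⟩
    have e' : y ^ i * a * φ x * (y ^ i * a)⁻¹ = x ^ (k * r ^ i % p) := by
      rw [show y ^ i * a * φ x * (y ^ i * a)⁻¹ = y ^ i * (a * φ x * a⁻¹) * (y ^ i)⁻¹ by group, ← hk',
        ← MulAut.conj_apply, map_pow, MulAut.conj_apply, hpow i, ← pow_mul, Nat.mul_comm, ← pow_eq_pow_mod _ hxp]
    rcases hi with hi | hi
    · exact Or.inl (by rw [e', hi, pow_one])
    · exact Or.inr (by
        rw [e', hi, eq_inv_iff_mul_eq_one, ← pow_succ, Nat.sub_add_cancel (Fact.out : p.Prime).one_le, hxp])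
  -- the image of `y` becomes `y`
  set ψ := MulAut.conj c * φ with hψ
  have hψx : ψ x = x ∨ ψ x = x⁻¹ := hc
  have hψy : y⁻¹ * ψ y ∈ Subgroup.zpowers x := by
    refine hcx _ ?_
    have e : ψ y * ψ x * (ψ y)⁻¹ = ψ x ^ r := by rw [← map_inv, ← map_mul, ← map_mul, hyx, map_pow]
    have e1 : ψ y * x * (ψ y)⁻¹ = x ^ r := by
      rcases hψx with h | h
      · rwa [h] at e
      · rw [h, inv_pow, ← conj_inv, inv_inj] at e
        exact e
    calc y⁻¹ * ψ y * x = y⁻¹ * (ψ y * x * (ψ y)⁻¹) * ψ y := by group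
      _ = y⁻¹ * (y * x * y⁻¹) * ψ y := by rw [e1, hyx]
      _ = x * (y⁻¹ * ψ y) := by group
  obtain ⟨k, hk⟩ := (mem_powers_iff_mem_zpowers (x := x) (y := y⁻¹ * ψ y)).2 hψy
  have hk' : ψ y = y * x ^ k := by
    show ψ y = y * (fun m : ℕ => x ^ m) k
    rw [show (fun m : ℕ => x ^ m) k = y⁻¹ * ψ y from hk, mul_inv_cancel_left]
  obtain ⟨m, hm⟩ : ∃ m : ℕ, x ^ m * ψ y * (x ^ m)⁻¹ = y := by
    have hpp := (Fact.out : p.Prime)
    -- `x ^ m * y = y * x ^ (m * r')` with `r'` inverting `r`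
    obtain ⟨r', hr'⟩ : ∃ r' : ℕ, r * r' % p = 1 := by
      rcases Nat.eq_zero_or_pos (r % p) with h0 | h0
      · exfalso
        have hx1 : x ^ r = 1 := by rw [pow_eq_pow_mod r hxp, h0, pow_zero]
        rw [hx1, conj_eq_one_iff] at hyx
        rw [hyx, orderOf_one] at hx
        exact hpp.ne_one hx.symm
      · refine ⟨r ^ (p - 2), ?_⟩
        rw [← pow_succ', show p - 2 + 1 = p - 1 by have := hpp.two_le; omega]
        have := Nat.ModEq.pow_totient (x := r) (n := p)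
          ((hpp.coprime_iff_not_dvd.2 fun hd => by rw [Nat.dvd_iff_mod_eq_zero] at hd; omega).symm)
        rwa [Nat.totient_prime hpp, Nat.ModEq, Nat.one_mod_eq_one.2 hpp.ne_one] at this
    have hcomm : ∀ m : ℕ, x ^ m * y = y * x ^ (r' * m) := fun m => by
      have e : y * x ^ (r' * m) * y⁻¹ = x ^ m := by
        rw [← MulAut.conj_apply, map_pow, MulAut.conj_apply, hyx, ← pow_mul, ← mul_assoc, pow_eq_pow_mod _ hxp,
          Nat.mul_mod, hr', one_mul, Nat.mod_mod, ← pow_eq_pow_mod _ hxp]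
      rw [← e, inv_mul_cancel_right]
    have hr1 : r' % p ≠ 1 := fun h => hr (by
      rw [Nat.mul_mod, h, mul_one, Nat.mod_mod] at hr'
      exact hr')
    -- solve `r' * m + k ≡ m`
    obtain ⟨m, hm⟩ : ∃ m : ℕ, (r' * m + k) % p = m % p := by
      refine ⟨((k : ZMod p) / (1 - (r' : ZMod p))).val, ?_⟩
      have hne : (1 - (r' : ZMod p)) ≠ 0 := by
        rw [sub_ne_zero]
        intro h
        apply hr1
        have := congrArg ZMod.val h.symm
        rwa [ZMod.val_natCast, ZMod.val_one] at this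
      refine (ZMod.natCast_eq_natCast_iff' _ _ p).1 ?_
      push_cast
      rw [ZMod.natCast_val, ZMod.cast_id]
      field_simp
      ring
    refine ⟨m, ?_⟩
    rw [hk', ← mul_assoc, hcomm, mul_assoc, mul_assoc, ← mul_assoc (x ^ (r' * m)), ← pow_add,
      pow_eq_pow_mod _ hxp, hm, ← pow_eq_pow_mod _ hxp, mul_inv_cancel, mul_one]
  set θ := MulAut.conj (x ^ m) * ψ with hθ
  have hθy : θ y = y := hm
  have hθx : θ x = x ∨ θ x = x⁻¹ := by
    rcases hψx with h | h <;> [left; right] <;> rw [hθ, MulAut.mul_apply, h, MulAut.conj_apply] <;> group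
  refine ⟨x ^ m * c, ?_⟩
  rw [map_mul, mul_assoc]
  exact ⟨hθx, hθy⟩

theorem out_eq_one_pair {G : Type*} [Group G] [Finite G] {p r q : ℕ} [Fact p.Prime]
    (x y t : G) (hx : orderOf x = p) (hfac : (Nat.card G).factorization p = 1)
    (hyx : y * x * y⁻¹ = x ^ r) (hr : r % p ≠ 1)
    (hdec : ∀ k < p, k ≠ 0 → ∃ i : ℕ, k * r ^ i % p = 1 ∨ k * r ^ i % p = p - 1)
    (hcx : ∀ g : G, g * x = x * g → g ∈ Subgroup.zpowers x)
    (hcy : ∀ g : G, g * y = y * g → g ∈ Subgroup.zpowers y) (hq : 0 < q) (hyq : y ^ q = 1)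
    (hty : t * y * t⁻¹ = y⁻¹) (hgen : Subgroup.closure ({x, t} : Set G) = ⊤)
    (hrel : ∀ φ : MulAut G, ∀ i < q, (φ x = x ∨ φ x = x⁻¹) → φ t = t * y ^ i → φ x = x ∧ φ t = t) :
    Nat.card (Out G) = 1 := by
  suffices h : ∀ φ : MulAut G, φ ∈ Inn G by
    change (Inn G).index = 1
    exact Subgroup.index_eq_one.2 (eq_top_iff.2 fun φ _ => h φ)
  intro φ
  obtain ⟨g, hθx, hθy⟩ := exists_normalised x y hx hfac hyx hr hdec hcx φ
  set θ := MulAut.conj g * φ with hθ
  -- the involution is fixed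
  obtain ⟨i, hi, hti⟩ : ∃ i < q, θ t = t * y ^ i := by
    have hmem : t⁻¹ * θ t ∈ Subgroup.zpowers y := by
      refine hcy _ ?_
      have e : θ t * y * (θ t)⁻¹ = y⁻¹ := by
        have := congrArg θ hty
        rwa [map_mul, map_mul, map_inv, map_inv, hθy] at this
      calc t⁻¹ * θ t * y = t⁻¹ * (θ t * y * (θ t)⁻¹) * θ t := by group
        _ = t⁻¹ * (t * y * t⁻¹) * θ t := by rw [e, hty]
        _ = y * (t⁻¹ * θ t) := by group
    obtain ⟨m, hm⟩ := (mem_powers_iff_mem_zpowers (x := y) (y := t⁻¹ * θ t)).2 hmem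
    refine ⟨m % q, Nat.mod_lt _ hq, ?_⟩
    rw [← pow_eq_pow_mod m hyq, show y ^ m = t⁻¹ * θ t from hm, mul_inv_cancel_left]
  obtain ⟨hfx, hft⟩ := hrel θ i hi hθx hti
  have hθ1 : θ = 1 := by
    have := MonoidHom.eq_of_eqOn_dense hgen (f := θ.toMonoidHom) (g := MonoidHom.id G) (by
      rintro g (rfl | rfl)
      exacts [hfx, hft])
    exact MulEquiv.ext fun g => DFunLike.congr_fun this g
  refine ⟨g⁻¹, ?_⟩
  rw [map_inv, inv_eq_of_mul_eq_one_right (show MulAut.conj g * φ = 1 from hθ1)]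

end CfsgLib.Spor.PermCert
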